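import Groth.Prelude.Def_HTop
import Groth.Agent.ChowLib.General
import Groth.Agent.ProjBundleLib.HProj
import Mathlib.AlgebraicGeometry.PullbackCarrier

/-! Refinements of families by standard ph coverings: extension of proper surjections from
quasi-compact opens (Chow's lemma and scheme theoretic images), and stability under composition. -/

set_option autoImplicit false
set_option linter.style.haveILetI false

universe w w' u

open CategoryTheory CategoryTheory.Limits AlgebraicGeometry TopologicalSpace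
open CohB1 (ProjSpaceOver)

noncomputable section

namespace Groth.Agent.HTopPhRef

theorem isProper_coprodDesc {X Y T : Scheme.{u}} (f : X ⟶ T) (g : Y ⟶ T) [IsProper f] [IsProper g] :
    IsProper (coprod.desc f g) := by
  have e : coprod.desc f g = coprod.map f g ≫ coprod.desc (𝟙 T) (𝟙 T) := by
    apply coprod.hom_ext <;> simp
  haveI : IsProper (coprod.map f g) := IsZariskiLocalAtTarget.coprodMap f g ‹_› ‹_›
  rw [e]
  infer_instance

/-- A proper surjection over a quasi-compact open of a qcqs scheme extends, after refinement, to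
a proper surjection over the whole scheme. -/
theorem exists_extend {T : Scheme.{u}} [CompactSpace T] [QuasiSeparatedSpace T] (W : T.Opens)
    (hW : IsCompact (W : Set T)) {X : Scheme.{u}} (p : X ⟶ W) [IsProper p] [Surjective p] :
    ∃ (P : Scheme.{u}) (q : P ⟶ T) (k : (q ⁻¹ᵁ W).toScheme ⟶ X),
      IsProper q ∧ Surjective q ∧ k ≫ p ≫ W.ι = (q ⁻¹ᵁ W).ι ≫ q := by
  haveI : CompactSpace (W : Scheme.{u}) := isCompact_iff_compactSpace.mp hW
  haveI : QuasiSeparatedSpace (W : Scheme.{u}) := W.ι.isOpenEmbedding.quasiSeparatedSpace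
  haveI : QuasiCompact W.ι := quasiCompact_of_compactSpace _
  obtain ⟨n, X', π, j, hj, hjp, hπ, hπs⟩ := ChowLib.exists_chow_general p
  haveI := hj
  haveI := hπ
  haveI := hπs
  haveI : IsProper (j ≫ ProjSpaceOver.toBase n (W : Scheme.{u})) := by rw [hjp]; infer_instance
  haveI : IsProper j := IsProper.of_comp j (ProjSpaceOver.toBase n (W : Scheme.{u}))
  haveI : IsClosedImmersion j :=
    IsClosedImmersion.of_isPreimmersion j j.isClosedMap.isClosed_range
  have hsq := ProjBundleLib.isPullback_projSpaceOver n W.ι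
  let ω := ProjMap.liftOver (ProjMap.toInt (W : Scheme.{u}) n)
    (ProjSpaceOver.toBase n (W : Scheme.{u}) ≫ W.ι)
  haveI : IsOpenImmersion ω := MorphismProperty.of_isPullback (P := @IsOpenImmersion) hsq.flip inferInstance
  haveI : QuasiCompact ω := MorphismProperty.of_isPullback (P := @QuasiCompact) hsq.flip inferInstance
  have hω : ω ≫ ProjSpaceOver.toBase n T = ProjSpaceOver.toBase n (W : Scheme.{u}) ≫ W.ι := hsq.w
  let m : X' ⟶ ProjSpaceOver n T := j ≫ ω
  let q₁ : m.image ⟶ T := m.imageι ≫ ProjSpaceOver.toBase n T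
  let C : TopologicalSpace.Closeds T := ⟨(W : Set T)ᶜ, W.isOpen.isClosed_compl⟩
  let I := Scheme.IdealSheafData.vanishingIdeal C
  haveI : IsProper q₁ := inferInstance
  let q : m.image ⨿ I.subscheme ⟶ T := coprod.desc q₁ I.subschemeι
  let t : X' ⟶ m.image ⨿ I.subscheme := m.toImage ≫ coprod.inl
  haveI : IsOpenImmersion t := inferInstance
  have htq : t ≫ q = π ≫ p ≫ W.ι := by
    simp only [t, q, q₁, Category.assoc, coprod.inl_desc]
    rw [Scheme.Hom.toImage_imageι_assoc]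
    simp only [m, Category.assoc, hω]
    rw [← Category.assoc, hjp, Category.assoc]
  have hsub : ((q ⁻¹ᵁ W : Scheme.Opens _) : Set ↑(m.image ⨿ I.subscheme)) ⊆ Set.range t := by
    intro x hx
    obtain ⟨(z | z), rfl⟩ := (coprodMk m.image I.subscheme).surjective x
    · rw [coprodMk_inl] at hx ⊢
      have hz : q₁ z ∈ W := by
        have h1 : q (coprod.inl (C := Scheme.{u}) z) ∈ W := hx
        rwa [← Scheme.Hom.comp_apply, coprod.inl_desc] at h1
      have hr : m.imageι z ∈ Set.range ω := by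
        obtain ⟨a, ha, -⟩ := Scheme.exists_preimage_of_isPullback hsq (m.imageι z) ⟨q₁ z, hz⟩ rfl
        exact ⟨a, ha⟩
      obtain ⟨a, ha⟩ := hr
      have hcl : m.imageι z ∈ closure (Set.range m) := by
        have h2 : m.imageι z ∈ Set.range m.imageι := ⟨z, rfl⟩
        rw [Scheme.IdealSheafData.range_subschemeι, Scheme.Hom.support_ker] at h2
        exact h2
      have ha' : a ∈ closure (Set.range j) := by
        rw [ω.isOpenEmbedding.isEmbedding.closure_eq_preimage_closure_image, ← Set.range_comp]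
        show ω a ∈ closure (Set.range (ω ∘ j))
        rw [ha]
        exact hcl
      rw [j.isClosedMap.isClosed_range.closure_eq] at ha'
      obtain ⟨b, hb⟩ := ha'
      have : m.toImage b = z := by
        apply m.imageι.isEmbedding.injective
        rw [← Scheme.Hom.comp_apply, Scheme.Hom.toImage_imageι]
        show ω (j b) = _
        rw [hb, ha]
      exact ⟨b, by simp only [t, Scheme.Hom.comp_apply, this]⟩
    · rw [coprodMk_inr] at hx
      exfalso
      have h1 : q (coprod.inr (C := Scheme.{u}) z) ∈ W := hx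
      rw [← Scheme.Hom.comp_apply, coprod.inr_desc] at h1
      have h2 : I.subschemeι z ∈ (I.support : Set T) := I.range_subschemeι ▸ ⟨z, rfl⟩
      rw [Scheme.IdealSheafData.coe_support_vanishingIdeal] at h2
      exact h2 h1
  let k : (q ⁻¹ᵁ W).toScheme ⟶ X' := IsOpenImmersion.lift t (q ⁻¹ᵁ W).ι (by
    rw [Scheme.Opens.range_ι]; exact hsub)
  refine ⟨_, q, k ≫ π, isProper_coprodDesc q₁ I.subschemeι, ⟨fun x => ?_⟩, ?_⟩
  · by_cases hx : x ∈ W
    · obtain ⟨a, ha⟩ := (π ≫ p).surjective ⟨x, hx⟩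
      refine ⟨t a, ?_⟩
      rw [← Scheme.Hom.comp_apply, htq, ← Category.assoc, Scheme.Hom.comp_apply, ha]
      rfl
    · have h2 : x ∈ Set.range I.subschemeι := by
        rw [I.range_subschemeι, Scheme.IdealSheafData.coe_support_vanishingIdeal]
        exact hx
      obtain ⟨z, rfl⟩ := h2
      refine ⟨coprod.inr (C := Scheme.{u}) z, ?_⟩
      rw [← Scheme.Hom.comp_apply, coprod.inr_desc]
  · rw [Category.assoc, ← htq, ← Category.assoc, IsOpenImmersion.lift_fac]

/-- `E` is refined over `g : U ⟶ T` by the Zariski localization of a proper surjection to `U`. -/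
def PhRefines {U T : Scheme.{u}} (g : U ⟶ T) (E : PreZeroHypercover.{w} T) : Prop :=
  ∃ (P : Scheme.{u}) (p : P ⟶ U), IsProper p ∧ Surjective p ∧
    ∀ x : P, ∃ (i : E.I₀) (A : Scheme.{u}) (o : A ⟶ P) (h : A ⟶ E.X i),
      IsOpenImmersion o ∧ x ∈ Set.range o ∧ h ≫ E.f i = o ≫ p ≫ g

variable {U T : Scheme.{u}} {g : U ⟶ T} {E : PreZeroHypercover.{w} T}

theorem of_standard {F : PreZeroHypercover.{w'} U} (hF : HTop.IsStandardPh F)
    (hr : HTop.RefinesOver g F E) : PhRefines g E := by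
  obtain ⟨P, f, ι, hp, hs, hι, hf, hc⟩ := hF.exists_proper
  refine ⟨P, f, hp, hs, fun x => ?_⟩
  obtain ⟨j, hj⟩ := hc x
  obtain ⟨i, h, hh⟩ := hr j
  exact ⟨i, F.X j, ι j, h, hι j, hj, by rw [hh, ← hf, Category.assoc]⟩

theorem self_of_standard (hE : HTop.IsStandardPh E) : PhRefines (𝟙 T) E :=
  of_standard hE fun j => ⟨j, 𝟙 _, by simp⟩

theorem phRefines_openCover (𝒰 : T.OpenCover) : PhRefines (𝟙 T) 𝒰.toPreZeroHypercover := by
  refine ⟨T, 𝟙 T, inferInstance, inferInstance, fun x => ?_⟩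
  obtain ⟨i, hi⟩ := 𝒰.exists_eq x
  exact ⟨i, 𝒰.X i, 𝒰.f i, 𝟙 _, inferInstance, hi, by simp⟩

theorem PhRefines.baseChange (h : PhRefines g E) {U' : Scheme.{u}} (g' : U' ⟶ U) :
    PhRefines (g' ≫ g) E := by
  obtain ⟨P, p, hp, hs, H⟩ := h
  refine ⟨pullback p g', pullback.snd p g', inferInstance, inferInstance, fun x => ?_⟩
  obtain ⟨i, A, o, a, ho, ⟨y, hy⟩, ha⟩ := H (pullback.fst p g' x)
  obtain ⟨z, hz, -⟩ := Scheme.Pullback.exists_preimage_pullback (f := pullback.fst p g') (g := o) x y hy.symm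
  refine ⟨i, _, pullback.fst (pullback.fst p g') o, pullback.snd _ o ≫ a, inferInstance, ⟨z, hz⟩, ?_⟩
  rw [Category.assoc, ha, ← pullback.condition_assoc, ← pullback.condition_assoc]

/-- Change the family along maps of members. -/
theorem PhRefines.map (h : PhRefines g E) {T' : Scheme.{u}} {E' : PreZeroHypercover.{w'} T'}
    {g' : U ⟶ T'}
    (H : ∀ (i : E.I₀) (A : Scheme.{u}) (u : A ⟶ U) (a : A ⟶ E.X i), a ≫ E.f i = u ≫ g →
      ∃ (i' : E'.I₀) (a' : A ⟶ E'.X i'), a' ≫ E'.f i' = u ≫ g') :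
    PhRefines g' E' := by
  obtain ⟨P, p, hp, hs, h⟩ := h
  refine ⟨P, p, hp, hs, fun x => ?_⟩
  obtain ⟨i, A, o, a, ho, hx, ha⟩ := h x
  obtain ⟨i', a', ha'⟩ := H i A (o ≫ p) a (by rw [Category.assoc]; exact ha)
  exact ⟨i', A, o, a', ho, hx, by rw [ha', Category.assoc]⟩

theorem PhRefines.comp {P : Scheme.{u}} {p : P ⟶ U} [IsProper p] [Surjective p]
    (h : PhRefines (p ≫ g) E) : PhRefines g E := by
  obtain ⟨Q, q, hq, hs, H⟩ := h
  refine ⟨Q, q ≫ p, inferInstance, inferInstance, fun x => ?_⟩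
  obtain ⟨i, A, o, a, ho, hx, ha⟩ := H x
  exact ⟨i, A, o, a, ho, hx, by rw [ha]; simp⟩

/-- The predicate is local on a qcqs source. -/
theorem phRefines_of_finite_cover [CompactSpace U] [QuasiSeparatedSpace U] {K : Type w'} [Finite K]
    (W : K → U.Opens) (hW : ∀ k, IsCompact (W k : Set U)) (hcov : ∀ x : U, ∃ k, x ∈ W k)
    (H : ∀ k, PhRefines ((W k).ι ≫ g) E) : PhRefines g E := by
  classical
  haveI := Fintype.ofFinite K
  choose X p hp hs hX using H
  choose P q k hqp hqs hk using fun a => haveI := hp a; haveI := hs a; exists_extend (W a) (hW a) (p a)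
  have key : ∀ s : Finset K, ∃ (R : Scheme.{u}) (r : R ⟶ U), IsProper r ∧ Surjective r ∧
      ∀ a ∈ s, ∃ c : (r ⁻¹ᵁ W a).toScheme ⟶ X a, c ≫ p a ≫ (W a).ι = (r ⁻¹ᵁ W a).ι ≫ r := by
    intro s
    induction s using Finset.induction_on with
    | empty => exact ⟨U, 𝟙 U, inferInstance, inferInstance, by simp⟩
    | insert b s _ ih =>
      obtain ⟨R, r, hrp, hrs, hr⟩ := ih
      haveI := hqp b
      haveI := hqs b
      refine ⟨pullback r (q b), pullback.fst r (q b) ≫ r, inferInstance, inferInstance, fun a ha => ?_⟩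
      rcases Finset.mem_insert.mp ha with rfl | ha
      · refine ⟨(pullback.snd r (q a)).resLE (q a ⁻¹ᵁ W a) _ (le_of_eq ?_) ≫ k a, ?_⟩
        · rw [← Scheme.Hom.comp_preimage, pullback.condition]
        · rw [Category.assoc, hk, Scheme.Hom.resLE_comp_ι_assoc, pullback.condition]
      · obtain ⟨c, hc⟩ := hr a ha
        refine ⟨(pullback.fst r (q b)).resLE (r ⁻¹ᵁ W a) _ (le_of_eq ?_) ≫ c, ?_⟩
        · rw [← Scheme.Hom.comp_preimage]
        · rw [Category.assoc, hc, Scheme.Hom.resLE_comp_ι_assoc]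
  obtain ⟨R, r, hrp, hrs, hr⟩ := key Finset.univ
  refine ⟨R, r, hrp, hrs, fun x => ?_⟩
  obtain ⟨a, ha⟩ := hcov (r x)
  obtain ⟨c, hc⟩ := hr a (Finset.mem_univ a)
  obtain ⟨i, A, o, e, ho, ⟨y, hy⟩, he⟩ := hX a (c ⟨x, ha⟩)
  obtain ⟨z, hz, -⟩ := Scheme.Pullback.exists_preimage_pullback (f := c) (g := o) ⟨x, ha⟩ y hy.symm
  refine ⟨i, _, pullback.fst c o ≫ (r ⁻¹ᵁ W a).ι, pullback.snd c o ≫ e, inferInstance, ⟨z, ?_⟩, ?_⟩
  · rw [Scheme.Hom.comp_apply, hz]; rfl
  · rw [Category.assoc, he, ← pullback.condition_assoc, reassoc_of% hc, Category.assoc]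

theorem exists_finite_affine_nbhds {X : Scheme.{u}} [CompactSpace X] {Q : X.affineOpens → Prop}
    (H : ∀ x : X, ∃ A : X.affineOpens, x ∈ A.1 ∧ Q A) :
    ∃ (n : ℕ) (A : Fin n → X.affineOpens), (∀ x : X, ∃ k, x ∈ (A k).1) ∧ ∀ k, Q (A k) := by
  choose A hx hQ using H
  obtain ⟨s, hs⟩ := isCompact_univ.elim_finite_subcover (fun x => ((A x).1 : Set X))
    (fun x => (A x).1.isOpen) (fun x _ => Set.mem_iUnion.mpr ⟨x, hx x⟩)
  let e := (Finite.equivFin (↥s)).symm
  refine ⟨_, fun k => A (e k), fun x => ?_, fun k => hQ _⟩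
  obtain ⟨i, hi, hxi⟩ := Set.mem_iUnion₂.mp (hs (Set.mem_univ x))
  exact ⟨e.symm ⟨i, hi⟩, by simpa using hxi⟩

theorem qcqs_of_proper {P U : Scheme.{u}} [IsAffine U] (p : P ⟶ U) [IsProper p] :
    CompactSpace P ∧ QuasiSeparatedSpace P :=
  ⟨QuasiCompact.compactSpace_of_compactSpace p, quasiSeparatedSpace_of_quasiSeparated p⟩

/-- Over an affine source this is refinement by a standard ph covering. -/
theorem PhRefines.exists_standard [IsAffine U] (h : PhRefines g E) :
    ∃ F : PreZeroHypercover.{0} U, HTop.IsStandardPh F ∧ HTop.RefinesOver g F E := by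
  obtain ⟨P, p, hp, hs, H⟩ := h
  haveI := (qcqs_of_proper p).1
  obtain ⟨n, A, hA, hQ⟩ := exists_finite_affine_nbhds (X := P)
    (Q := fun A => ∃ (i : E.I₀) (a : A.1.toScheme ⟶ E.X i), a ≫ E.f i = A.1.ι ≫ p ≫ g) fun x => by
      obtain ⟨i, A, o, a, ho, hx, ha⟩ := H x
      obtain ⟨_, ⟨B, hB, rfl⟩, hxB, hBA⟩ := P.isBasis_affineOpens.exists_subset_of_mem_open
        hx o.isOpenEmbedding.isOpen_range
      refine ⟨⟨B, hB⟩, hxB, i,
        IsOpenImmersion.lift o (Scheme.Opens.ι B) (by rwa [Scheme.Opens.range_ι]) ≫ a, ?_⟩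
      rw [Category.assoc, ha, IsOpenImmersion.lift_fac_assoc]
  refine ⟨⟨Fin n, fun k => (A k).1.toScheme, fun k => (A k).1.ι ≫ p⟩,
    ⟨inferInstance, inferInstanceAs (Finite (Fin n)), fun k => (A k).2,
      P, p, fun k => (A k).1.ι, hp, hs, fun k => inferInstance, fun k => rfl, fun x => ?_⟩,
    fun k => ?_⟩
  · obtain ⟨k, hk⟩ := hA x
    exact ⟨k, ⟨x, hk⟩, rfl⟩
  · obtain ⟨i, a, ha⟩ := hQ k
    exact ⟨i, a, ha.trans (Category.assoc _ _ _).symm⟩

/-- A ph covering is refined over every morphism from an affine scheme. -/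
theorem phRefines_of_isPhCover (hE : HTop.IsPhCover E) [IsAffine U] (g : U ⟶ T) :
    PhRefines g E := by
  obtain ⟨n, A, hA, hQ⟩ := exists_finite_affine_nbhds (X := U)
    (Q := fun A => ∃ W : T.affineOpens, A.1 ≤ g ⁻¹ᵁ W.1) fun x => by
      obtain ⟨_, ⟨W, hW, rfl⟩, hxW, -⟩ := T.isBasis_affineOpens.exists_subset_of_mem_open
        (Set.mem_univ (g x)) isOpen_univ
      obtain ⟨_, ⟨B, hB, rfl⟩, hxB, hBW⟩ := U.isBasis_affineOpens.exists_subset_of_mem_open
        (show x ∈ (g ⁻¹ᵁ W : Set U) from hxW) (g ⁻¹ᵁ W).2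
      exact ⟨⟨B, hB⟩, hxB, ⟨W, hW⟩, hBW⟩
  refine phRefines_of_finite_cover (fun k => (A k).1) (fun k => (A k).2.isCompact) hA fun k => ?_
  obtain ⟨W, hW⟩ := hQ k
  obtain ⟨F, hF, hr⟩ := hE.2 W
  have := (of_standard hF hr).baseChange (g.resLE W.1 (A k).1 hW)
  rwa [Scheme.Hom.resLE_comp_ι] at this

/-- Composition. -/
theorem PhRefines.bind [IsAffine U] (h : PhRefines g E)
    {F : ∀ i, PreZeroHypercover.{w'} (E.X i)}
    (hF : ∀ (i : E.I₀) (A : Scheme.{u}) [IsAffine A] (a : A ⟶ E.X i), PhRefines a (F i)) :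
    PhRefines g (E.bind F) := by
  obtain ⟨P, p, hp, hs, H⟩ := h
  obtain ⟨hc, hq⟩ := qcqs_of_proper p
  obtain ⟨n, A, hA, hQ⟩ := exists_finite_affine_nbhds (X := P)
    (Q := fun A => ∃ (i : E.I₀) (a : A.1.toScheme ⟶ E.X i), a ≫ E.f i = A.1.ι ≫ p ≫ g) fun x => by
      obtain ⟨i, A, o, a, ho, hx, ha⟩ := H x
      obtain ⟨_, ⟨B, hB, rfl⟩, hxB, hBA⟩ := P.isBasis_affineOpens.exists_subset_of_mem_open
        hx o.isOpenEmbedding.isOpen_range
      refine ⟨⟨B, hB⟩, hxB, i,
        IsOpenImmersion.lift o (Scheme.Opens.ι B) (by rwa [Scheme.Opens.range_ι]) ≫ a, ?_⟩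
      rw [Category.assoc, ha, IsOpenImmersion.lift_fac_assoc]
  refine PhRefines.comp (p := p) ?_
  refine phRefines_of_finite_cover (fun k => (A k).1) (fun k => (A k).2.isCompact) hA fun k => ?_
  obtain ⟨i, a, ha⟩ := hQ k
  haveI : IsAffine ((A k).1 : Scheme.{u}) := (A k).2
  refine (hF i _ a).map fun m B u b hb => ⟨⟨i, m⟩, b, ?_⟩
  show b ≫ (F i).f m ≫ E.f i = _
  rw [reassoc_of% hb, ha]

theorem isPhCover_pullback₁ {T' : Scheme.{u}} (g : T' ⟶ T) (hE : HTop.IsPhCover E) :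
    HTop.IsPhCover (E.pullback₁ g) := by
  refine ⟨fun i => ?_, fun W => ?_⟩
  · haveI := hE.1 i
    show LocallyOfFiniteType (pullback.fst g (E.f i))
    infer_instance
  · haveI : IsAffine (W.1 : Scheme.{u}) := W.2
    refine PhRefines.exists_standard ?_
    refine (phRefines_of_isPhCover hE (W.1.ι ≫ g)).map fun i A u a ha =>
      ⟨i, pullback.lift (u ≫ W.1.ι) a (by rw [ha, Category.assoc]), pullback.lift_fst _ _ _⟩

theorem isPhCover_bind (hE : HTop.IsPhCover E) {F : ∀ i, PreZeroHypercover.{w'} (E.X i)}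
    (hF : ∀ i, HTop.IsPhCover (F i)) : HTop.IsPhCover (E.bind F) := by
  refine ⟨fun ⟨i, m⟩ => ?_, fun W => ?_⟩
  · haveI := hE.1 i
    haveI := (hF i).1 m
    show LocallyOfFiniteType ((F i).f m ≫ E.f i)
    infer_instance
  · haveI : IsAffine (W.1 : Scheme.{u}) := W.2
    exact ((phRefines_of_isPhCover hE W.1.ι).bind fun i A _ a =>
      phRefines_of_isPhCover (hF i) a).exists_standard

theorem exists_hom_of_phRefines_id [IsAffine T] (h : PhRefines (𝟙 T) E) :
    ∃ F : PreZeroHypercover.{0} T, HTop.IsStandardPh F ∧ Nonempty (F.Hom E) := by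
  obtain ⟨F, hF, hr⟩ := h.exists_standard
  choose i a ha using hr
  exact ⟨F, hF, ⟨⟨i, a, fun j => by rw [ha, Category.comp_id]⟩⟩⟩

end Groth.Agent.HTopPhRef
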